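import Groth.Agent.SBTwLib.Periodic
import Groth.Agent.KSModLib.SepDescend
import Groth.Agent.SerreVanLib.Main

/-! Absolutely split bundles when the geometric Picard group is cyclic. -/

set_option autoImplicit false
set_option linter.style.haveILetI false
set_option linter.unusedSectionVars false
set_option maxHeartbeats 1000000
universe u

noncomputable section

open CategoryTheory CategoryTheory.Limits AlgebraicGeometry
open W4c1astiltbs12 (pow)
open KFlatLib (pb)

namespace ASBunPic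

attribute [local instance] Abelian.hasFiniteBiproducts

variable {Y : Scheme.{u}}

theorem exists_cls (c : PicLoc.PicSet Y) :
    ∃ (M : Y.Modules) (h : PicF.IsInvertible M), PicGrp.cls M h = c := by
  obtain ⟨M, hM1, hM2⟩ := c.2
  exact ⟨M, hM2, Subtype.ext hM1⟩

theorem cls_iso {A B : Y.Modules} (hA : PicF.IsInvertible A) (hB : PicF.IsInvertible B) (i : A ≅ B) :
    PicGrp.cls A hA = PicGrp.cls B hB := (PicGrp.cls_eq_cls_iff hA hB).2 ⟨i⟩

variable [PicGrp.Law Y]

theorem cls_tensor {A B : Y.Modules} (hA : PicF.IsInvertible A) (hB : PicF.IsInvertible B) :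
    PicGrp.cls (CohB1.tensorMod A B) (HilbPolyLib.isInvertible_tensor hA hB) = PicGrp.cls A hA * PicGrp.cls B hB :=
  Subtype.ext (by rw [PicGrp.cls_mul_cls_val, PicGrp.cls_val])

theorem isInvertible_tensorPow {L : Y.Modules} (hL : PicF.IsInvertible L) :
    ∀ n, PicF.IsInvertible (CohB1.tensorPow L n)
  | 0 => CurvLib.isInvertible_structureModule
  | n + 1 => HilbPolyLib.isInvertible_tensor (isInvertible_tensorPow hL n) hL

theorem cls_tensorPow {L : Y.Modules} (hL : PicF.IsInvertible L) (n : ℕ) :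
    PicGrp.cls (CohB1.tensorPow L n) (isInvertible_tensorPow hL n) = PicGrp.cls L hL ^ n :=
  Subtype.ext (by rw [PicGrp.cls_pow_val, PicGrp.cls_val])

/-- Twisting by mutually inverse modules. -/
def twistCancel {X : Scheme.{u}} (A : X.Modules) {J J' : X.Modules}
    (v : CohB1.tensorMod J J' ≅ Coh.structureModule X) : CohB1.tensorMod (CohB1.tensorMod A J) J' ≅ A :=
  SerreVanLib.tensorAssoc A J J' ≪≫ SBTw.tensIso (Iso.refl A) v ≪≫
    KFlatLib.tensSwap (Coh.structureModule X) A ≪≫ KFlatLib.tensUnitIso A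

theorem indec_twist {X : Scheme.{u}} {E J J' : X.Modules} (hE : KSMod.Indec E)
    (v : CohB1.tensorMod J J' ≅ Coh.structureModule X) : KSMod.Indec (CohB1.tensorMod E J) := by
  let T := (DCoh.tensorBi (X := X)).flip.obj J'
  let T' := (DCoh.tensorBi (X := X)).flip.obj J
  refine ⟨fun h => hE.1 ((T.map_isZero h).of_iso (twistCancel E v).symm), fun A B ⟨g⟩ => ?_⟩
  haveI : PreservesBinaryBiproducts T := preservesBinaryBiproducts_of_preservesBinaryCoproducts T
  have v' : CohB1.tensorMod J' J ≅ Coh.structureModule X := KFlatLib.tensSwap J J' ≪≫ v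
  rcases hE.2 _ _ ⟨(twistCancel E v).symm ≪≫ T.mapIso g ≪≫ T.mapBiprod A B⟩ with h | h
  · exact Or.inl ((T'.map_isZero h).of_iso (twistCancel A v').symm)
  · exact Or.inr ((T'.map_isZero h).of_iso (twistCancel B v').symm)

variable {k : Type u} [Field k] {X : Scheme.{u}} (p : X ⟶ Spec (CommRingCat.of k)) [IsProper p]
  (K : Type u) [Field K] [Algebra k K] [ConnectedSpace ↥(W4bk4gw11416.baseChange p K)]

/-- Exponents of isotypical presentations are determined. -/
theorem pow_iso_unique {N N' : (W4bk4gw11416.baseChange p K).Modules} (hN : PicF.IsInvertible N)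
    (hN' : PicF.IsInvertible N') {a b : ℕ} (ha : 0 < a) (e : pow N a ≅ pow N' b) : Nonempty (N ≅ N') := by
  letI : (W4bk4gw11416.baseChange p K).Over (Spec (CommRingCat.of K)) := ⟨(KSMod.bcSq p K).iY⟩
  haveI : IsProper ((W4bk4gw11416.baseChange p K) ↘ Spec (CommRingCat.of K)) :=
    inferInstanceAs (IsProper (pullback.snd p (Spec.map (CommRingCat.ofHom (algebraMap k K)))))
  obtain ⟨a, rfl⟩ := Nat.exists_eq_succ_of_ne_zero ha.ne'
  have hN'i := KSMod.indec_invertible_connected hN'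
  have hc : Coh.IsCoh (pow N (a + 1)) := by
    haveI := CurvLib.isNoetherian K (X := W4bk4gw11416.baseChange p K)
    exact QCohLib.isCoh_of_iso (biproduct.isoCoproduct _) (CurveSDLib.isCoh_biproduct fun _ =>
      Groth.Agent.PerfLib.isCoh_of_isFinLocFree (AmpleDevLib.isFinLocFree_of_isInvertible hN))
  obtain ⟨c, ⟨t⟩⟩ := KSMod.summand_pow (k := K) hc hN'i
    ((biproduct.isoCoproduct _).symm ≪≫ KSMod.splitOff (fun _ : Fin (a + 1) => N) 0) e
  haveI : Nonempty ↥(W4bk4gw11416.baseChange p K) := ConnectedSpace.toNonempty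
  have hN1 := KSMod.indec_invertible_connected hN
  rcases c with _ | _ | c
  · exact absurd ((KSMod.isZero_pow_zero N').of_iso t) hN1.1
  · exact ⟨(show N ≅ pow N' 1 from t) ≪≫ coproductUniqueIso fun _ : Fin 1 => N'⟩
  · exfalso
    let q : N ≅ N' ⊞ _ := t ≪≫ (biproduct.isoCoproduct _).symm ≪≫ KSMod.splitOff (fun _ : Fin (c + 2) => N') 0
    rcases hN1.2 _ _ ⟨q⟩ with h | h
    · exact hN'i.1 h
    · refine hN'i.1 ?_
      refine (IsZero.iff_id_eq_zero N').2 ?_
      have h1 := h.eq_of_src (biproduct.desc fun _ => 𝟙 N') 0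
      have h2 := congrArg (fun z => biproduct.ι _ (0 : Fin (c + 1)) ≫ z) h1
      simpa using h2

variable [PicGrp.Law X] [PicGrp.Law (W4bk4gw11416.baseChange p K)]

open W4c1astiltbs12 (proj bcMod)

theorem pow_rep {J : X.Modules} (hJ : PicF.IsInvertible J) (hπ : PicGrp.PullMul (proj p K))
    {Ja : X.Modules} (hJa : PicF.IsInvertible Ja) {a : ℤ} (h : PicGrp.cls Ja hJa = PicGrp.cls J hJ ^ a) :
    PicGrp.cls (pb (proj p K) Ja) (AmpleDevLib.isInvertible_pb _ hJa) =
      PicGrp.cls (pb (proj p K) J) (AmpleDevLib.isInvertible_pb _ hJ) ^ a := by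
  have h1 := congrArg (PicGrp.pullHom (proj p K) hπ) h
  rwa [map_zpow, PicGrp.pullHom_cls, PicGrp.pullHom_cls] at h1

theorem exists_type_rep {L : (W4bk4gw11416.baseChange p K).Modules} {M₁ : X.Modules} {d₁ : ℕ}
    (hM₁ : FlatMod.IsFinLocFree M₁) (t : bcMod p K M₁ ≅ pow L d₁) :
    ∀ j, ∃ Y : X.Modules, FlatMod.IsFinLocFree Y ∧ Nonempty (bcMod p K Y ≅ pow (CohB1.tensorPow L j) (d₁ ^ j))
  | 0 => ⟨Coh.structureModule X, AmpleDevLib.isFinLocFree_of_isInvertible CurvLib.isInvertible_structureModule,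
      ⟨KFlatLib.pullUnitIso (proj p K) ≪≫ (coproductUniqueIso fun _ : Fin 1 => Coh.structureModule _).symm⟩⟩
  | j + 1 => by
    obtain ⟨Y, hY, ⟨t'⟩⟩ := exists_type_rep hM₁ t j
    haveI : IsLocallyNoetherian X := LocallyOfFiniteType.isLocallyNoetherian p
    exact ⟨CohB1.tensorMod Y M₁, VBResLib.vb_tensor M₁ hY hM₁, ⟨PicPnLib.pullTens (proj p K) Y M₁ ≪≫
      SBTw.tensIso t' t ≪≫ (SBTw.nonempty_tensor_pow _ _ _ _).some⟩⟩

variable {L : (W4bk4gw11416.baseChange p K).Modules} (hL : PicF.IsInvertible L)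
  (e : PicLoc.PicSet (W4bk4gw11416.baseChange p K) ≃* Multiplicative ℤ)
  (he : e (PicGrp.cls L hL) = Multiplicative.ofAdd 1)
  {r : ℕ} (hr : 1 ≤ r) {J : X.Modules} (hJ : PicF.IsInvertible J)
  (hJL : Nonempty (bcMod p K J ≅ CohB1.tensorPow L r)) (hπ : PicGrp.PullMul (proj p K))

include he hJL hπ in
/-- The class of a twisted power. -/
theorem cls_type {Ja : X.Modules} (hJa : PicF.IsInvertible Ja) {a : ℤ} (h : PicGrp.cls Ja hJa = PicGrp.cls J hJ ^ a)
    (j : ℕ) : e (PicGrp.cls (CohB1.tensorMod (CohB1.tensorPow L j) (pb (proj p K) Ja))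
      (HilbPolyLib.isInvertible_tensor (isInvertible_tensorPow hL j) (AmpleDevLib.isInvertible_pb _ hJa))) =
      Multiplicative.ofAdd ((j : ℤ) + r * a) := by
  obtain ⟨i⟩ := hJL
  rw [cls_tensor (isInvertible_tensorPow hL j) (AmpleDevLib.isInvertible_pb _ hJa), pow_rep p K hJ hπ hJa h,
    cls_iso (AmpleDevLib.isInvertible_pb _ hJ) (isInvertible_tensorPow hL r) i, cls_tensorPow hL, cls_tensorPow hL,
    map_mul, map_zpow, map_pow, map_pow, he]
  apply Multiplicative.toAdd.injective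
  simp [mul_comm, add_comm]

include he hr hJL hπ in
/-- The decomposition of an indecomposable absolutely split bundle. -/
theorem exists_decomposition (hML : ∃ (M₁ : X.Modules) (d₁ : ℕ), FlatMod.IsFinLocFree M₁ ∧ KSMod.Indec M₁ ∧
      Nonempty (bcMod p K M₁ ≅ pow L d₁))
    {E : X.Modules} (hE : FlatMod.IsFinLocFree E) (hEi : KSMod.Indec E)
    {n : ℕ} (Ls : Fin n → (W4bk4gw11416.baseChange p K).Modules) (hLs : ∀ i, PicF.IsInvertible (Ls i))
    (hEs : bcMod p K E ≅ ∐ Ls) :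
    ∃ (a : ℤ) (j : ℕ), j < r ∧ ∃ (M : X.Modules) (d : ℕ) (Ja : X.Modules) (hJa : PicF.IsInvertible Ja),
      FlatMod.IsFinLocFree M ∧ KSMod.Indec M ∧
      Nonempty (bcMod p K M ≅ pow (CohB1.tensorPow L j) d) ∧
      PicGrp.cls Ja hJa = PicGrp.cls J hJ ^ a ∧ Nonempty (E ≅ CohB1.tensorMod M Ja) := by
  obtain ⟨M₁, d₁, hM₁, hM₁i, ⟨t₁⟩⟩ := hML
  haveI : IsLocallyNoetherian X := LocallyOfFiniteType.isLocallyNoetherian p
  have hd₁ : 0 < d₁ := Nat.pos_of_ne_zero fun h0 => by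
    subst h0
    letI : X.Over (Spec (CommRingCat.of k)) := ⟨p⟩
    haveI : IsProper (X ↘ Spec (CommRingCat.of k)) := ‹IsProper p›
    haveI := CurvLib.isNoetherian k (X := X)
    haveI := (Groth.Agent.PerfLib.isCoh_of_isFinLocFree hM₁).1
    exact hM₁i.1 (KSMod.isZero_of_isZero_pb (KSMod.bcSq p K) ((KSMod.isZero_pow_zero L).of_iso t₁))
  have hrep : ∀ i : Fin n, ∃ (a : ℤ) (j : ℕ) (Ja : X.Modules) (hJa : PicF.IsInvertible Ja),
      j < r ∧ PicGrp.cls Ja hJa = PicGrp.cls J hJ ^ a ∧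
      Nonempty (CohB1.tensorMod (CohB1.tensorPow L j) (pb (proj p K) Ja) ≅ Ls i) := fun i => by
    let c := Multiplicative.toAdd (e (PicGrp.cls (Ls i) (hLs i)))
    have h0 : 0 ≤ c % (r : ℤ) := Int.emod_nonneg _ (by omega)
    have h1 : c % (r : ℤ) < r := Int.emod_lt_of_pos _ (by omega)
    obtain ⟨Ja, hJa, hcl⟩ := exists_cls (PicGrp.cls J hJ ^ (c / (r : ℤ)))
    refine ⟨c / r, (c % r).toNat, Ja, hJa, by omega, hcl, (PicGrp.cls_eq_cls_iff
      (HilbPolyLib.isInvertible_tensor (isInvertible_tensorPow hL _) (AmpleDevLib.isInvertible_pb _ hJa))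
      (hLs i)).1 (e.injective ?_)⟩
    rw [cls_type p K hL e he hJ hJL hπ hJa hcl]
    apply Multiplicative.toAdd.injective
    rw [toAdd_ofAdd, Int.toNat_of_nonneg h0]
    exact Int.emod_add_mul_ediv c r
  choose a j Ja hJa hj hcl hiso using hrep
  have hex : ∀ i, ∃ (d : ℕ) (Y : X.Modules), 0 < d ∧ FlatMod.IsFinLocFree Y ∧
      Nonempty (bcMod p K Y ≅ pow (Ls i) d) := fun i => by
    obtain ⟨Y, hY, ⟨t⟩⟩ := exists_type_rep p K hM₁ t₁ (j i)
    exact ⟨d₁ ^ (j i), CohB1.tensorMod Y (Ja i), pow_pos hd₁ _,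
      VBResLib.vb_tensor (Ja i) hY (AmpleDevLib.isFinLocFree_of_isInvertible (hJa i)),
      ⟨PicPnLib.pullTens (proj p K) Y (Ja i) ≪≫
        SBTw.tensIso t (coproductUniqueIso fun _ : Fin 1 => pb (proj p K) (Ja i)).symm ≪≫
        (SBTw.nonempty_tensor_pow _ _ _ 1).some ≪≫ eqToIso (by rw [mul_one]) ≪≫
        Sigma.mapIso fun _ => (hiso i).some⟩⟩
  obtain ⟨i, m, hm, ⟨t⟩⟩ := KSMod.isotypical_of_types hE hEi Ls
    (fun i => KSMod.indec_invertible_connected (hLs i)) hEs hex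
  obtain ⟨J', hJ', hJ'c⟩ := exists_cls (PicGrp.cls (Ja i) (hJa i))⁻¹
  obtain ⟨v⟩ := (PicGrp.cls_mul_cls_eq_one_iff (hJa i) hJ').1 (by rw [hJ'c, mul_inv_cancel])
  have v' : CohB1.tensorMod J' (Ja i) ≅ Coh.structureModule X := KFlatLib.tensSwap (Ja i) J' ≪≫ v
  refine ⟨a i, j i, hj i, CohB1.tensorMod E J', m, Ja i, hJa i,
    VBResLib.vb_tensor J' hE (AmpleDevLib.isFinLocFree_of_isInvertible hJ'), indec_twist hEi v', ⟨?_⟩, hcl i,
    ⟨(twistCancel E v').symm⟩⟩
  exact PicPnLib.pullTens (proj p K) E J' ≪≫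
    SBTw.tensIso (t ≪≫ Sigma.mapIso fun _ => (hiso i).some.symm)
      (coproductUniqueIso fun _ : Fin 1 => pb (proj p K) J').symm ≪≫
    (SBTw.nonempty_tensor_pow _ _ m 1).some ≪≫ eqToIso (by rw [mul_one]) ≪≫
    Sigma.mapIso fun _ => twistCancel _ ((PicPnLib.pullTens (proj p K) (Ja i) J').symm ≪≫
      (Scheme.Modules.pullback (proj p K)).mapIso v ≪≫ KFlatLib.pullUnitIso (proj p K))

include he hJL hπ in
/-- The type of a decomposition is determined. -/
theorem type_unique {E : X.Modules} (hE : FlatMod.IsFinLocFree E) (hEi : KSMod.Indec E)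
    {a a' : ℤ} {j j' : ℕ} {M M' Ja Ja' : X.Modules} {d d' : ℕ} (hJa : PicF.IsInvertible Ja)
    (hJa' : PicF.IsInvertible Ja') (hj : j < r) (hj' : j' < r)
    (t : bcMod p K M ≅ pow (CohB1.tensorPow L j) d) (t' : bcMod p K M' ≅ pow (CohB1.tensorPow L j') d')
    (h : PicGrp.cls Ja hJa = PicGrp.cls J hJ ^ a) (h' : PicGrp.cls Ja' hJa' = PicGrp.cls J hJ ^ a')
    (u : E ≅ CohB1.tensorMod M Ja) (u' : E ≅ CohB1.tensorMod M' Ja') : a = a' ∧ j = j' := by
  have key : ∀ {M Ja : X.Modules} {d j : ℕ}, (bcMod p K M ≅ pow (CohB1.tensorPow L j) d) →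
      (E ≅ CohB1.tensorMod M Ja) →
      (bcMod p K E ≅ pow (CohB1.tensorMod (CohB1.tensorPow L j) (pb (proj p K) Ja)) d) :=
    fun {M Ja d j} t u => (Scheme.Modules.pullback (proj p K)).mapIso u ≪≫ PicPnLib.pullTens (proj p K) M Ja ≪≫
      SBTw.tensIso t (coproductUniqueIso fun _ : Fin 1 => pb (proj p K) Ja).symm ≪≫
      (SBTw.nonempty_tensor_pow _ _ d 1).some ≪≫ eqToIso (by rw [mul_one])
  have hd : 0 < d := Nat.pos_of_ne_zero fun h0 => by
    subst h0
    letI : X.Over (Spec (CommRingCat.of k)) := ⟨p⟩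
    haveI : IsProper (X ↘ Spec (CommRingCat.of k)) := ‹IsProper p›
    haveI := CurvLib.isNoetherian k (X := X)
    haveI := (Groth.Agent.PerfLib.isCoh_of_isFinLocFree hE).1
    exact hEi.1 (KSMod.isZero_of_isZero_pb (KSMod.bcSq p K) ((KSMod.isZero_pow_zero _).of_iso (key t u)))
  have hN := HilbPolyLib.isInvertible_tensor (isInvertible_tensorPow hL j) (AmpleDevLib.isInvertible_pb (proj p K) hJa)
  have hN' := HilbPolyLib.isInvertible_tensor (isInvertible_tensorPow hL j') (AmpleDevLib.isInvertible_pb (proj p K) hJa')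
  obtain ⟨i⟩ := pow_iso_unique p K hN hN' hd ((key t u).symm ≪≫ key t' u')
  have hc := congrArg e (cls_iso hN hN' i)
  rw [cls_type p K hL e he hJ hJL hπ hJa h, cls_type p K hL e he hJ hJL hπ hJa' h'] at hc
  have hc' : (j : ℤ) + r * a = j' + r * a' := Multiplicative.ofAdd.injective hc
  have ha : a = a' := by
    rcases lt_trichotomy a a' with hlt | heq | hlt
    · exfalso; nlinarith
    · exact heq
    · exfalso; nlinarith
  subst ha
  exact ⟨rfl, by omega⟩

end ASBunPic
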